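import Cfsg.Agent.LThreeB.Asm
import Cfsg.Agent.LThreeB.FromM
import Cfsg.Agent.LThreeMB.KPair
import Cfsg.Agent.Prune
set_option linter.all false
prune_inst 0x7f00000000000000000000000000000000000000000000000000000000000000000000000000000000000000000000000000000000000000000000000000000000000000000000000000000000000000003fffffffffffffffffffffffffffbeffbdffffffff
open scoped Cfsg.Agent.FastGrp

/-!
# The cases `Th` and `Fi24'` of `Cases` (helper11)

`invSer_fi : InvSer Fi24'` from the Monster; `case_th`, `case_fi`, `cases_of` : the structure `Cases` of `Asm.lean` from its first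
field.
-/

set_option autoImplicit false

namespace Cfsg.Agent.LThreeB

open Subgroup Cfsg Cfsg.Agent.LThree Cfsg.Agent.LThreeMB Cfsg.Agent.MonsterU Cfsg.Agent.MonsterU.Ch
open Cfsg.Agent.MonsterU.Lam2 (L2 IsType)
open Cfsg.Spor (Co1)

universe u v w

variable {G : Type u} [Group G] {Q : Subgroup G} {z : G} {eta : G → L2}
  {pi : Subgroup.centralizer ({z} : Set G) →* Co1}

/-- `InvSer Fi24'`, from the Monster. -/
theorem invSer_fi [Finite G] [IsSimpleGroup G] (h : Chart Q z eta pi) (I : CoOne) : InvSer.{0, w} Spor.Fi24' := by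
  obtain ⟨s, hs, hfs, ht, h4⟩ := I.psu
  obtain ⟨x, hx, rfl⟩ := KPair.exists_order_three h hs
  obtain ⟨h1, h2, h3⟩ := ser_tt.{u, w} h hx hfs ht
  have hi := iso_fi24 h hx hfs (by rw [hfs]; exact I.twelve) ht h4
  have h5 : InvSer.{u, w} (XX (x : G)) := invSer_fi24 hi h1 h3 h2
  obtain ⟨e⟩ := hi
  exact h5.congr e.symm

/-- **The case `Th`.** -/
theorem case_th [Finite G] {T : G → Prop} (hT : ∀ t, T t → orderOf t = 2) (x t : G) (hx : orderOf x = 3)
    (h : Spor.IsoTh (XX x)) (ht : T t) (hxt : x * t = t * x) : Comps 3 ↥(XT x t) := by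
  obtain ⟨e⟩ := h
  exact comps_inf_of_invSer hx (invSer_th.congr e) (hT t ht) hxt.symm

/-- **The case `Fi24'`.** -/
theorem case_fi [Finite G] (hI : InvSer.{0, u} Spor.Fi24') {T : G → Prop} (hT : ∀ t, T t → orderOf t = 2) (x t : G)
    (hx : orderOf x = 3) (h : Spor.IsoFi24' (XX x)) (ht : T t) (hxt : x * t = t * x) : Comps 3 ↥(XT x t) := by
  obtain ⟨e⟩ := h
  exact comps_inf_of_invSer hx (hI.congr e) (hT t ht) hxt.symm

/-- **`Cases` from the case of fixed rank 0.** -/
theorem cases_of [Finite G] [IsSimpleGroup G] (h : Chart Q z eta pi) (I : CoOne) {T : G → Prop}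
    (hT : ∀ t, T t → orderOf t = 2)
    (zero : ∀ (x : Subgroup.centralizer ({z} : Set G)) (t : G), orderOf x = 3 → fr (pi x) = 1 → T t →
      (x : G) * t = t * x → Comps 3 ↥(XT (x : G) t)) : Cases z pi T where
  zero := zero
  th := case_th hT
  fi := case_fi (invSer_fi h I) hT

end Cfsg.Agent.LThreeB
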