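import Cfsg.Agent.LThreeMB.KPair
import Cfsg.Agent.H849.ThreeNorm_m3
import Cfsg.Agent.MonsterX.KModel
import Cfsg.Agent.MonsterX.Frames.J8D_m3
import Cfsg.Agent.LThree.Red
import Cfsg.Agent.FastGrp
import Cfsg.Agent.Prune
set_option linter.all false

section
prune_inst 0x7f00000000000000000000000000000000000000000000000000000000000000000000000000000000000000000000000000000000000000000000000000000000000000000000000000000000000000003fffffffffffffffffffffffffffbeffbdffffffff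

-- part: LThreeMB/Model
section
set_option linter.all false
open scoped Cfsg.Agent.FastGrp

/-!
# The elements of order 3 of the model of the Monster (helper68)

`D : MData V` the data of the model, `N : KS D.G V P W` its `K`-side.
-/

set_option autoImplicit false

namespace Cfsg.Agent.LThreeMB.Model

open Cfsg Cfsg.Agent.LThree Cfsg.Agent.LThreeMB
open Cfsg.Agent.MonsterX.KSide Cfsg.Agent.MonsterX.KLift Cfsg.Agent.MonsterX.KModel
open Cfsg.Agent.MonsterX.Model Cfsg.Agent.MonsterX.MainSimple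
open Cfsg.Agent.MonsterX.MainBasic
open Cfsg.Spor (Co1)
open Subgroup (centralizer mem_centralizer_singleton_iff)

variable {V P W : Type} [AddCommGroup V] [Module ℚ V] [Group P] [AddCommGroup W] [Module ℚ W]
  {D : MData V} {N : KS ↥D.G V P W} {x₀ : P} {θ : leechLattice → P}

theorem z_eq (H : Link D N x₀) {K₀ : Type} [Group K₀] (hG : MGroup D K₀) : zG hG = N.z :=
  Subtype.ext H.z_eq

theorem cent (H : Link D N x₀) {K₀ : Type} [Group K₀] (hG : MGroup D K₀) (hR : MRep D) (hL : MLat D) (hO : MOrbit D)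
    (hT : MTrans D) : KChart.Cent N := by
  intro g hg
  rw [H.C_iff, ← mem_cent_iff hG hR hL hO hT, mem_centralizer_singleton_iff, z_eq H hG]
  exact hg

/-- **Every `x` of order 3 commuting with a conjugate of `z`.** -/
theorem comps_conj (FT : ∀ (K : Type) [Group K] [Finite K], Odd (Nat.card K) → Group.IsSolvable K) [Finite ↥D.G]
    [IsSimpleGroup ↥D.G] (L : Lift N θ) (hc : KChart.Cent N) (I : CoOne) (hO : KPair.OctPair) (ht : KPair.TraceNe N)
    (h2 : KPair.Second N) {x : ↥D.G} (hx : orderOf x = 3) (hex : ∃ g : ↥D.G, (g * N.z * g⁻¹) * x = x * (g * N.z * g⁻¹)) :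
    Comps 3 ↥(centralizer ({x} : Set ↥D.G)) := by
  obtain ⟨g, hg⟩ := hex
  have h1 : (g⁻¹ * x * g) * N.z = N.z * (g⁻¹ * x * g) := by
    calc (g⁻¹ * x * g) * N.z = g⁻¹ * (x * (g * N.z * g⁻¹)) * g := by group
      _ = g⁻¹ * ((g * N.z * g⁻¹) * x) * g := by rw [hg]
      _ = N.z * (g⁻¹ * x * g) := by group
  let x' : centralizer ({N.z} : Set ↥D.G) := ⟨g⁻¹ * x * g, mem_centralizer_singleton_iff.2 h1⟩
  have h3 : g * (x' : ↥D.G) * g⁻¹ = x := by
    show g * (g⁻¹ * x * g) * g⁻¹ = x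
    group
  have hx' : orderOf x' = 3 := by
    rw [← Subgroup.orderOf_coe, ← hx, ← h3]
    exact (orderOf_injective (MulAut.conj g).toMonoidHom (MulAut.conj g).injective (x' : ↥D.G)).symm
  obtain ⟨⟨e⟩, -⟩ := exists_XX_equiv h3
  exact (comps_of_inputs FT (KChart.chart L hc) I (KPair.trNe L hc ht) (KPair.hasPair L hc h2 hO) hx').congr e

end Cfsg.Agent.LThreeMB.Model
end

-- part: LThreeB/Asm
section
set_option linter.all false
open scoped Cfsg.Agent.FastGrp

/-!
# Elements of order 3 of the Baby Monster, from the Monster (helper46)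

`G` the Monster, `t` an involution, `x` of order 3 commuting with `t`: `XT x t = C(x) ∩ C(t)`.

* `comps_conj` : conjugation; `lpAll_of_cover` : from `Comps 3 (XT x t)` for all `x` to `L_3(C(t)/⟨t⟩) ⊆ C_3`;
* `comps_in` : `Comps 3 (XT x t)` from the cases of the fixed rank.
-/

set_option autoImplicit false

namespace Cfsg.Agent.LThreeB

open Cfsg Cfsg.Agent.LThree Cfsg.Agent.LThreeMB Cfsg.Agent.MonsterU
open Cfsg.Agent.MonsterU.Ch
open Cfsg.Agent.MonsterU.Lam2 (L2)
open Cfsg.Spor (Co1)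
open Subgroup (centralizer zpowers mem_centralizer_singleton_iff center)

universe u v

section basic

variable {G : Type u} [Group G]

/-- `C(x) ∩ C(t)` -/
abbrev XT (x t : G) : Subgroup G := centralizer ({x} : Set G) ⊓ centralizer ({t} : Set G)

theorem mem_XT {x t g : G} : g ∈ XT x t ↔ g * x = x * g ∧ g * t = t * g := by
  rw [Subgroup.mem_inf, mem_centralizer_singleton_iff, mem_centralizer_singleton_iff]

theorem conj_comm' {x g k : G} (h : k * x = x * k) : (g * k * g⁻¹) * (g * x * g⁻¹) = (g * x * g⁻¹) * (g * k * g⁻¹) := by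
  calc g * k * g⁻¹ * (g * x * g⁻¹) = g * (k * x) * g⁻¹ := by group
    _ = g * (x * k) * g⁻¹ := by rw [h]
    _ = g * x * g⁻¹ * (g * k * g⁻¹) := by group

/-- conjugation of `C(x) ∩ C(t)` -/
def conjXT (g x t : G) : ↥(XT x t) ≃* ↥(XT (g * x * g⁻¹) (g * t * g⁻¹)) where
  toFun c := ⟨g * c * g⁻¹, mem_XT.2 ⟨conj_comm' (mem_XT.1 c.2).1, conj_comm' (mem_XT.1 c.2).2⟩⟩
  invFun c := ⟨g⁻¹ * c * g, by
    have h := mem_XT.1 c.2
    have h1 := conj_comm' (g := g⁻¹) h.1
    have h2 := conj_comm' (g := g⁻¹) h.2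
    rw [inv_inv] at h1 h2
    refine mem_XT.2 ⟨?_, ?_⟩
    · have e : g⁻¹ * (g * x * g⁻¹) * g = x := by group
      rw [e] at h1
      exact h1
    · have e : g⁻¹ * (g * t * g⁻¹) * g = t := by group
      rw [e] at h2
      exact h2⟩
  left_inv c := Subtype.ext (by show g⁻¹ * (g * (c : G) * g⁻¹) * g = c; group)
  right_inv c := Subtype.ext (by show g * (g⁻¹ * (c : G) * g) * g⁻¹ = c; group)
  map_mul' a b := Subtype.ext (by
    show g * ((a : G) * b) * g⁻¹ = g * a * g⁻¹ * (g * b * g⁻¹); group)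

theorem comps_conj {g x t x' t' : G} (hx : g * x * g⁻¹ = x') (ht : g * t * g⁻¹ = t') (h : Comps 3 ↥(XT x t)) :
    Comps 3 ↥(XT x' t') := by
  subst hx
  subst ht
  exact h.congr (conjXT g x t)

/-- `C_{C(t)}(x) = C(x) ∩ C(t)` -/
def centXT {t : G} (x : ↥(centralizer ({t} : Set G))) :
    ↥(XT (x : G) t) ≃* ↥(centralizer ({x} : Set ↥(centralizer ({t} : Set G)))) where
  toFun c := ⟨⟨c, mem_centralizer_singleton_iff.2 (mem_XT.1 c.2).2⟩,
    mem_centralizer_singleton_iff.2 (Subtype.ext (mem_XT.1 c.2).1)⟩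
  invFun c := ⟨((c : ↥(centralizer ({t} : Set G))) : G),
    mem_XT.2 ⟨congrArg Subtype.val (mem_centralizer_singleton_iff.1 c.2), mem_centralizer_singleton_iff.1 c.1.2⟩⟩
  left_inv _ := rfl
  right_inv _ := rfl
  map_mul' _ _ := rfl

/-- `C_{C(x)}(t) = C(x) ∩ C(t)` -/
def centXT' {x : G} (t : ↥(centralizer ({x} : Set G))) :
    ↥(centralizer ({t} : Set ↥(centralizer ({x} : Set G)))) ≃* ↥(XT x (t : G)) where
  toFun c := ⟨((c : ↥(centralizer ({x} : Set G))) : G),
    mem_XT.2 ⟨mem_centralizer_singleton_iff.1 c.1.2, congrArg Subtype.val (mem_centralizer_singleton_iff.1 c.2)⟩⟩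
  invFun c := ⟨⟨c, mem_centralizer_singleton_iff.2 (mem_XT.1 c.2).1⟩,
    mem_centralizer_singleton_iff.2 (Subtype.ext (mem_XT.1 c.2).2)⟩
  left_inv _ := rfl
  right_inv _ := rfl
  map_mul' _ _ := rfl

end basic

/-- **The passage to `C(t) / Z`.** -/
theorem lpAll_of_cover {G : Type u} [Group G] [Finite G] {t : G} {X : Type v} [Group X]
    (h2 : Nat.card ↥(center ↥(centralizer ({t} : Set G))) = 2)
    (e : ↥(centralizer ({t} : Set G)) ⧸ center ↥(centralizer ({t} : Set G)) ≃* X)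
    (h : ∀ x : G, orderOf x = 3 → x * t = t * x → Comps 3 ↥(XT x t)) : LpAll 3 X (InC 3) := by
  have h1 : LpAll 3 ↥(centralizer ({t} : Set G)) (InC 3) := by
    rw [lpAll_iff]
    intro x hx
    rw [← Subgroup.orderOf_coe] at hx
    exact (h x hx (mem_centralizer_singleton_iff.1 x.2)).congr (centXT x)
  have h3 := Red.lpAll_quot Nat.prime_three (center ↥(centralizer ({t} : Set G))) (by rw [h2]; norm_num) h1
  exact lpAll_of_equiv e (lpAll_iff.1 h3)

variable {G : Type u} [Group G] {Q : Subgroup G} {z : G} {eta : G → L2}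
  {pi : Subgroup.centralizer ({z} : Set G) →* Co1}

theorem isoTh_of_inputs [Finite G] [IsSimpleGroup G] (h : Chart Q z eta pi) (I : CoOne)
    {x : Subgroup.centralizer ({z} : Set G)} (hx : orderOf x = 3) (hfr : fr (pi x) = 2 ^ 8) :
    Spor.IsoTh (XX (x : G)) := by
  obtain ⟨s, hs, hfs, ⟨e⟩, hg, hf⟩ := I.nine
  obtain ⟨x', hx', hs', c, hc⟩ := exists_conj_to h hx hs (by rw [hfr]; exact I.eight) (by rw [hfs, hfr])
  subst hs'
  obtain ⟨-, ⟨f⟩⟩ := exists_XX_equiv hc
  exact isoTh_congr f (iso_th h hx' hfs (by rw [hfs]; exact I.eight) hf e hg)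

theorem isoFi_of_inputs [Finite G] [IsSimpleGroup G] (h : Chart Q z eta pi) (I : CoOne)
    {x : Subgroup.centralizer ({z} : Set G)} (hx : orderOf x = 3) (hfr : fr (pi x) = 2 ^ 12) :
    Spor.IsoFi24' (XX (x : G)) := by
  obtain ⟨s, hs, hfs, ht, h4⟩ := I.psu
  obtain ⟨x', hx', hs', c, hc⟩ := exists_conj_to h hx hs (by rw [hfr]; exact I.twelve) (by rw [hfs, hfr])
  subst hs'
  obtain ⟨-, ⟨f⟩⟩ := exists_XX_equiv hc
  exact isoFi24_congr f (iso_fi24 h hx' hfs (by rw [hfs]; exact I.twelve) ht h4)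

/-- The three cases. `T` : the class of `t`. -/
structure Cases (z : G) (pi : Subgroup.centralizer ({z} : Set G) →* Co1) (T : G → Prop) : Prop where
  /-- fixed rank 0 -/
  zero : ∀ (x : Subgroup.centralizer ({z} : Set G)) (t : G), orderOf x = 3 → fr (pi x) = 1 → T t →
    (x : G) * t = t * x → Comps 3 ↥(XT (x : G) t)
  th : ∀ x t : G, orderOf x = 3 → Spor.IsoTh (XX x) → T t → x * t = t * x → Comps 3 ↥(XT x t)
  fi : ∀ x t : G, orderOf x = 3 → Spor.IsoFi24' (XX x) → T t → x * t = t * x → Comps 3 ↥(XT x t)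

/-- **`C(x) ∩ C(t)`**, `x` in `C(z)`. -/
theorem comps_of_cases [Finite G] [IsSimpleGroup G] (h : Chart Q z eta pi) (I : CoOne) (ht : TrNe z pi)
    (hp : HasPair z pi) {T : G → Prop} (hT : ∀ t g : G, T t → T (g * t * g⁻¹)) (C : Cases z pi T)
    {x : Subgroup.centralizer ({z} : Set G)} (hx : orderOf x = 3) {t : G} (htT : T t) (hxt : (x : G) * t = t * x) :
    Comps 3 ↥(XT (x : G) t) := by
  have hx' : orderOf (x : G) = 3 := by rw [Subgroup.orderOf_coe, hx]
  rcases I.ranks (pi x) (orderOf_pi h hx) with h1 | h1 | h1 | h1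
  · exact C.zero x t hx h1 htT hxt
  · obtain ⟨x₀, u, g, hx₀, hfr₀, huz, hux, hne, hg⟩ := hp
    obtain ⟨k, hk⟩ := conj_six h ht I.ranks I.six
      (fun x hx h2 => ⟨(good_of_inputs h I hx h2 : Good.{u} _).simple, (good_of_inputs h I hx h2 : Good.{u} _).nc⟩)
      hx₀ hfr₀ huz hux hne hg hx h1
    have h2 : (x₀ : G) * (k * t * k⁻¹) = (k * t * k⁻¹) * x₀ := by
      rw [← hk]
      exact conj_comm' hxt
    refine comps_conj (g := k⁻¹) (x := x₀) (t := k * t * k⁻¹) ?_ ?_ (C.zero x₀ _ hx₀ hfr₀ (hT t k htT) h2)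
    · rw [← hk]; group
    · group
  · exact C.th x t hx' (isoTh_of_inputs h I hx h1) htT hxt
  · exact C.fi x t hx' (isoFi_of_inputs h I hx h1) htT hxt

/-- **`C(x) ∩ C(t)`**, for `x` commuting with a conjugate of `z`. -/
theorem comps_in [Finite G] [IsSimpleGroup G] (h : Chart Q z eta pi) (I : CoOne) (ht : TrNe z pi)
    (hp : HasPair z pi) {T : G → Prop} (hT : ∀ t g : G, T t → T (g * t * g⁻¹)) (C : Cases z pi T)
    {x t : G} (hx : orderOf x = 3) (htT : T t) (hxt : x * t = t * x)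
    (hex : ∃ g : G, (g * z * g⁻¹) * x = x * (g * z * g⁻¹)) : Comps 3 ↥(XT x t) := by
  obtain ⟨g, hg⟩ := hex
  have h1 : (g⁻¹ * x * g) * z = z * (g⁻¹ * x * g) := by
    calc (g⁻¹ * x * g) * z = g⁻¹ * (x * (g * z * g⁻¹)) * g := by group
      _ = g⁻¹ * ((g * z * g⁻¹) * x) * g := by rw [hg]
      _ = z * (g⁻¹ * x * g) := by group
  let x' : centralizer ({z} : Set G) := ⟨g⁻¹ * x * g, mem_centralizer_singleton_iff.2 h1⟩
  have h3 : g * (x' : G) * g⁻¹ = x := by
    show g * (g⁻¹ * x * g) * g⁻¹ = x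
    group
  have hx' : orderOf x' = 3 := by
    rw [← Subgroup.orderOf_coe, ← hx, ← h3]
    exact (orderOf_injective (MulAut.conj g).toMonoidHom (MulAut.conj g).injective (x' : G)).symm
  have h4 : (x' : G) * (g⁻¹ * t * g) = (g⁻¹ * t * g) * x' := by
    have h5 := conj_comm' (g := g⁻¹) hxt
    rw [inv_inv] at h5
    exact h5
  have h6 : T (g⁻¹ * t * g) := by
    have h5 := hT t g⁻¹ htT
    rw [inv_inv] at h5
    exact h5
  exact comps_conj h3 (by group) (comps_of_cases h I ht hp hT C hx' h6 h4)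

end Cfsg.Agent.LThreeB
end
end
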